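/-
Helper lemmas for package NEA of claim (N) (S2858): the hypothesis `hZ` of
`Helper59.Amal.subQuot` from a swap element `t`.
-/
import Cfsg.Agent.Lib.Helper45.S3Amal.NDefs

set_option autoImplicit false

namespace Cfsg.Agent.Lib.Helper35.S3Amal

open Cfsg.Agent.Lib.Helper71.Sym Cfsg.Agent.Lib.Helper45.S3Amal

universe u

variable {G : Type u} [Group G]

/-- A central involution of `S / K`, elementwise. -/
theorem exists_central_mod {S K : Subgroup G} [Finite ↥S] (hS2 : IsPGroup 2 ↥S) (hKS : K ≤ S)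
    (hKn : Nz S K) (hne : K ≠ S) :
    ∃ z ∈ S, z ∉ K ∧ z * z ∈ K ∧ ∀ s ∈ S, z * s * z⁻¹ * s⁻¹ ∈ K := by
  have : Fact (Nat.Prime 2) := ⟨Nat.prime_two⟩
  have hnorm : (K.subgroupOf S).Normal := by
    constructor
    intro n hn g
    rw [Subgroup.mem_subgroupOf] at hn ⊢
    exact hKn g g.2 n hn
  have hQ2 : IsPGroup 2 (↥S ⧸ K.subgroupOf S) := hS2.to_quotient _
  have hnt : Nontrivial (↥S ⧸ K.subgroupOf S) := by
    obtain ⟨s, hs, hsK⟩ : ∃ s ∈ S, s ∉ K := by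
      by_contra hcon
      push Not at hcon
      exact hne (le_antisymm hKS hcon)
    refine ⟨QuotientGroup.mk (⟨s, hs⟩ : ↥S), 1, ?_⟩
    intro h
    rw [QuotientGroup.eq_one_iff] at h
    exact hsK (Subgroup.mem_subgroupOf.mp h)
  have hcnt : Nontrivial (Subgroup.center (↥S ⧸ K.subgroupOf S)) := hQ2.center_nontrivial
  have hc2 : IsPGroup 2 (Subgroup.center (↥S ⧸ K.subgroupOf S)) := hQ2.to_subgroup _
  have hdvd : 2 ∣ Nat.card (Subgroup.center (↥S ⧸ K.subgroupOf S)) := by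
    obtain ⟨k, hk⟩ := IsPGroup.iff_card.mp hc2
    rcases k with _ | k
    · exfalso
      rw [pow_zero] at hk
      have := Finite.one_lt_card (α := Subgroup.center (↥S ⧸ K.subgroupOf S))
      omega
    · rw [hk, pow_succ]; exact dvd_mul_left 2 _
  obtain ⟨c, hc⟩ := exists_prime_orderOf_dvd_card' (G := Subgroup.center (↥S ⧸ K.subgroupOf S))
    2 hdvd
  obtain ⟨z', hz'⟩ := QuotientGroup.mk_surjective (c : ↥S ⧸ K.subgroupOf S)
  have hc1 : (c : ↥S ⧸ K.subgroupOf S) ≠ 1 := by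
    intro h
    have : c = 1 := Subtype.ext h
    rw [this, orderOf_one] at hc
    omega
  have hcsq : (c : ↥S ⧸ K.subgroupOf S) * c = 1 := by
    have h1 : c ^ 2 = 1 := by rw [← hc]; exact pow_orderOf_eq_one c
    have h2 := congrArg Subtype.val h1
    rw [pow_two] at h2
    exact h2
  have hccent : ∀ y : ↥S ⧸ K.subgroupOf S, y * (c : ↥S ⧸ K.subgroupOf S) = c * y := by
    intro y
    exact Subgroup.mem_center_iff.mp c.2 y
  refine ⟨(z' : G), z'.2, ?_, ?_, ?_⟩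
  · intro hzK
    apply hc1
    rw [← hz', QuotientGroup.eq_one_iff]
    exact Subgroup.mem_subgroupOf.mpr hzK
  · have h1 : (QuotientGroup.mk (z' * z') : ↥S ⧸ K.subgroupOf S) = 1 := by
      rw [QuotientGroup.mk_mul, hz']; exact hcsq
    rw [QuotientGroup.eq_one_iff] at h1
    exact Subgroup.mem_subgroupOf.mp h1
  · intro s hs
    have h1 : (QuotientGroup.mk (z' * ⟨s, hs⟩ * z'⁻¹ * (⟨s, hs⟩ : ↥S)⁻¹) :
        ↥S ⧸ K.subgroupOf S) = 1 := by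
      rw [QuotientGroup.mk_mul, QuotientGroup.mk_mul, QuotientGroup.mk_mul, QuotientGroup.mk_inv,
        QuotientGroup.mk_inv, hz']
      have h2 := hccent (QuotientGroup.mk (⟨s, hs⟩ : ↥S))
      rw [← h2]
      group
    rw [QuotientGroup.eq_one_iff] at h1
    exact Subgroup.mem_subgroupOf.mp h1

/-- The subgroup `{z ∈ S | z² ∈ K, [z, S] ⊆ K}` (preimage of `Ω₁Z(S/K)`). -/
theorem exists_omegaZMod {S K : Subgroup G} (_hKS : K ≤ S) (hKn : Nz S K) :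
    ∃ Z : Subgroup G, ∀ z, z ∈ Z ↔ (z ∈ S ∧ z * z ∈ K ∧ ∀ s ∈ S, z * s * z⁻¹ * s⁻¹ ∈ K) := by
  refine ⟨{ carrier := {z | z ∈ S ∧ z * z ∈ K ∧ ∀ s ∈ S, z * s * z⁻¹ * s⁻¹ ∈ K}
            mul_mem' := ?_
            one_mem' := ?_
            inv_mem' := ?_ }, fun z => Iff.rfl⟩
  · rintro z z' ⟨hz, hzz, hzc⟩ ⟨hz', hzz', hzc'⟩
    refine ⟨S.mul_mem hz hz', ?_, fun s hs => ?_⟩
    · have h1 : z' * z * z'⁻¹ * z⁻¹ ∈ K := hzc' z hz
      have h2 := hKn z hz _ h1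
      have e : z * z' * (z * z') = (z * (z' * z * z'⁻¹ * z⁻¹) * z⁻¹) * (z * z) * (z' * z') := by
        group
      rw [e]
      exact K.mul_mem (K.mul_mem h2 hzz) hzz'
    · have h1 := hKn z hz _ (hzc' s hs)
      have e : z * z' * s * (z * z')⁻¹ * s⁻¹ =
          (z * (z' * s * z'⁻¹ * s⁻¹) * z⁻¹) * (z * s * z⁻¹ * s⁻¹) := by group
      rw [e]
      exact K.mul_mem h1 (hzc s hs)
  · refine ⟨S.one_mem, by simp, fun s _ => ?_⟩
    have e : (1 : G) * s * (1 : G)⁻¹ * s⁻¹ = 1 := by group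
    rw [e]; exact K.one_mem
  · rintro z ⟨hz, hzz, hzc⟩
    refine ⟨S.inv_mem hz, ?_, fun s hs => ?_⟩
    · have e : z⁻¹ * z⁻¹ = (z * z)⁻¹ := by group
      rw [e]; exact K.inv_mem hzz
    · have h1 := hKn z⁻¹ (S.inv_mem hz) _ (K.inv_mem (hzc s hs))
      have e : z⁻¹ * s * z⁻¹⁻¹ * s⁻¹ = z⁻¹ * (z * s * z⁻¹ * s⁻¹)⁻¹ * z⁻¹⁻¹ := by group
      rw [e]; exact h1

/-- `hZ` of `subQuot` from a swap element. -/
theorem hZ_of_swap {L₁ L₂ S K : Subgroup G} [Finite ↥S] (hS2 : IsPGroup 2 ↥S) (hSL₁ : S ≤ L₁)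
    (hSL₂ : S ≤ L₂) (hKS : K ≤ S) (hK₁ : Nz L₁ K) (hK₂ : Nz L₂ K)
    (hKmax : ∀ N : Subgroup G, N ≤ S → Nz L₁ N → Nz L₂ N → N ≤ K) (hne : K ≠ S) (t : G)
    (htS : cj t S = S) (ht₁ : cj t L₁ = L₂) (ht₂ : cj t L₂ = L₁) :
    ∀ P ∈ ({L₁, L₂} : Set (Subgroup G)), ∃ z ∈ S, z * z ∈ K ∧
      (∀ s ∈ S, z * s * z⁻¹ * s⁻¹ ∈ K) ∧ ∃ g ∈ P, g * z * g⁻¹ * z⁻¹ ∉ K := by
  have hKnS : Nz S K := fun s hs k hk => hK₁ s (hSL₁ hs) k hk
  -- facts on `t`
  have t1 : ∀ s ∈ S, t * s * t⁻¹ ∈ S := by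
    intro s hs
    have := conj_mem_cj (g := t) hs
    rwa [htS] at this
  have t2 : ∀ s ∈ S, t⁻¹ * s * t ∈ S := by
    intro s hs
    rw [← htS] at hs
    exact mem_cj.mp hs
  have t5a : ∀ g ∈ L₂, t⁻¹ * g * t ∈ L₁ := by
    intro g hg
    rw [← ht₁] at hg
    exact mem_cj.mp hg
  have t5b : ∀ g ∈ L₁, t⁻¹ * g * t ∈ L₂ := by
    intro g hg
    rw [← ht₂] at hg
    exact mem_cj.mp hg
  have t6a : ∀ h ∈ L₁, t * h * t⁻¹ ∈ L₂ := by
    intro h hh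
    have := conj_mem_cj (g := t) hh
    rwa [ht₁] at this
  have t6b : ∀ h ∈ L₂, t * h * t⁻¹ ∈ L₁ := by
    intro h hh
    have := conj_mem_cj (g := t) hh
    rwa [ht₂] at this
  have t3 : ∀ k ∈ K, t * k * t⁻¹ ∈ K := by
    have hle : cj t K ≤ K := by
      apply hKmax
      · intro k' hk'
        have h1 := t1 _ (hKS (mem_cj.mp hk'))
        have e : t * (t⁻¹ * k' * t) * t⁻¹ = k' := by group
        rwa [e] at h1
      · intro h hh k' hk'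
        rw [mem_cj] at hk' ⊢
        have h1 := hK₂ _ (t5b h hh) _ hk'
        have e : t⁻¹ * (h * k' * h⁻¹) * t = (t⁻¹ * h * t) * (t⁻¹ * k' * t) * (t⁻¹ * h * t)⁻¹ := by
          group
        rw [e]; exact h1
      · intro h hh k' hk'
        rw [mem_cj] at hk' ⊢
        have h1 := hK₁ _ (t5a h hh) _ hk'
        have e : t⁻¹ * (h * k' * h⁻¹) * t = (t⁻¹ * h * t) * (t⁻¹ * k' * t) * (t⁻¹ * h * t)⁻¹ := by
          group
        rw [e]; exact h1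
    intro k hk
    exact hle (conj_mem_cj hk)
  have t4 : ∀ k ∈ K, t⁻¹ * k * t ∈ K := by
    have hle : cj t⁻¹ K ≤ K := by
      apply hKmax
      · intro k' hk'
        rw [mem_cj, inv_inv] at hk'
        have h1 := t2 _ (hKS hk')
        have e : t⁻¹ * (t * k' * t⁻¹) * t = k' := by group
        rwa [e] at h1
      · intro h hh k' hk'
        rw [mem_cj, inv_inv] at hk' ⊢
        have h1 := hK₂ _ (t6a h hh) _ hk'
        have e : t * (h * k' * h⁻¹) * t⁻¹ = (t * h * t⁻¹) * (t * k' * t⁻¹) * (t * h * t⁻¹)⁻¹ := by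
          group
        rw [e]; exact h1
      · intro h hh k' hk'
        rw [mem_cj, inv_inv] at hk' ⊢
        have h1 := hK₁ _ (t6b h hh) _ hk'
        have e : t * (h * k' * h⁻¹) * t⁻¹ = (t * h * t⁻¹) * (t * k' * t⁻¹) * (t * h * t⁻¹)⁻¹ := by
          group
        rw [e]; exact h1
    intro k hk
    apply hle
    rw [mem_cj, inv_inv]
    have e : t * (t⁻¹ * k * t) * t⁻¹ = k := by group
    rw [e]; exact hk
  -- the subgroup `Z`
  obtain ⟨Z, hZ⟩ := exists_omegaZMod hKS hKnS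
  have hZS : Z ≤ S := fun z hz => ((hZ z).mp hz).1
  have hKZ : K ≤ Z := by
    intro k hk
    rw [hZ]
    refine ⟨hKS hk, K.mul_mem hk hk, fun s hs => ?_⟩
    have h1 := hKnS s hs _ (K.inv_mem hk)
    have e : k * s * k⁻¹ * s⁻¹ = k * (s * k⁻¹ * s⁻¹) := by group
    rw [e]; exact K.mul_mem hk h1
  have hZt : ∀ z ∈ Z, t⁻¹ * z * t ∈ Z := by
    intro z hz
    obtain ⟨h1, h2, h3⟩ := (hZ z).mp hz
    rw [hZ]
    refine ⟨t2 z h1, ?_, fun s hs => ?_⟩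
    · have := t4 _ h2
      have e : t⁻¹ * z * t * (t⁻¹ * z * t) = t⁻¹ * (z * z) * t := by group
      rw [e]; exact this
    · have := t4 _ (h3 _ (t1 s hs))
      have e : t⁻¹ * z * t * s * (t⁻¹ * z * t)⁻¹ * s⁻¹ =
          t⁻¹ * (z * (t * s * t⁻¹) * z⁻¹ * (t * s * t⁻¹)⁻¹) * t := by group
      rw [e]; exact this
  -- transfer of `[La, Z] ⊆ K` along `t`
  have transfer : ∀ La Lb : Subgroup G, (∀ g ∈ Lb, t⁻¹ * g * t ∈ La) →
      (∀ z ∈ Z, ∀ g ∈ La, g * z * g⁻¹ * z⁻¹ ∈ K) → ∀ z ∈ Z, ∀ g ∈ Lb, g * z * g⁻¹ * z⁻¹ ∈ K := by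
    intro La Lb hab hLa z hz g hg
    have h1 := t3 _ (hLa _ (hZt z hz) _ (hab g hg))
    have e : t * ((t⁻¹ * g * t) * (t⁻¹ * z * t) * (t⁻¹ * g * t)⁻¹ * (t⁻¹ * z * t)⁻¹) * t⁻¹ =
        g * z * g⁻¹ * z⁻¹ := by group
    rwa [e] at h1
  -- if `[L₁, Z] ⊆ K` and `[L₂, Z] ⊆ K` then `Z ≤ K`
  have both : (∀ z ∈ Z, ∀ g ∈ L₁, g * z * g⁻¹ * z⁻¹ ∈ K) →
      (∀ z ∈ Z, ∀ g ∈ L₂, g * z * g⁻¹ * z⁻¹ ∈ K) → False := by
    intro h1 h2
    have hle : Z ≤ K := by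
      apply hKmax Z hZS
      · intro g hg z hz
        have e : g * z * g⁻¹ = (g * z * g⁻¹ * z⁻¹) * z := by group
        rw [e]; exact Z.mul_mem (hKZ (h1 z hz g hg)) hz
      · intro g hg z hz
        have e : g * z * g⁻¹ = (g * z * g⁻¹ * z⁻¹) * z := by group
        rw [e]; exact Z.mul_mem (hKZ (h2 z hz g hg)) hz
    obtain ⟨z, hzS, hzK, hzz, hzc⟩ := exists_central_mod hS2 hKS hKnS hne
    exact hzK (hle ((hZ z).mpr ⟨hzS, hzz, hzc⟩))
  rintro P (rfl | rfl)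
  · by_contra hcon
    push Not at hcon
    have h1 : ∀ z ∈ Z, ∀ g ∈ P, g * z * g⁻¹ * z⁻¹ ∈ K := by
      intro z hz g hg
      obtain ⟨a, b, c⟩ := (hZ z).mp hz
      exact hcon z a b c g hg
    exact both h1 (transfer P L₂ t5a h1)
  · by_contra hcon
    push Not at hcon
    have h2 : ∀ z ∈ Z, ∀ g ∈ P, g * z * g⁻¹ * z⁻¹ ∈ K := by
      intro z hz g hg
      obtain ⟨a, b, c⟩ := (hZ z).mp hz
      exact hcon z a b c g hg
    exact both (transfer P L₁ t5b h2) h2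

end Cfsg.Agent.Lib.Helper35.S3Amal
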