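/-
Package NC of claim (N) for S2858 (helper45's cut): `(h1)` modulo a common normal subgroup `K`
of `L` and `cj p L`: an element `g ∈ L` with `[g, D] ⊆ K` lies in `D = Q₁ ⊓ Q₂`.
-/
import Cfsg.Agent.Lib.Helper45.S3Amal.NDefs
import Cfsg.Agent.Lib.Helper35.Amal.Endgame

set_option autoImplicit false

namespace Cfsg.Agent.Lib.Helper35.S3Amal

open Cfsg.Agent.Lib.Helper71.Sym Cfsg.Agent.Lib.Helper45.S3Amal Cfsg.Agent.Lib.Helper35.Amal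

universe u

variable {G : Type u} [Group G]

theorem s3Loc_of_lamal {H T Q : Subgroup G} (h : LAmal H T Q) : S3Loc H T Q :=
  ⟨h.hQT, h.hTH, h.hQn, h.fin, h.hT2, h.hTQ, h.hHT, h.hTn, h.hCQ⟩

/-- Three pairwise distinct cosets of `T` exhaust `H`. -/
theorem three_cosets {H T Q : Subgroup G} (L : S3Loc H T Q) {a b : G} (ha : a ∈ H) (hb : b ∈ H)
    (haT : a ∉ T) (hbT : b ∉ T) (hab : a⁻¹ * b ∉ T) :
    ∀ h ∈ H, h ∈ T ∨ a⁻¹ * h ∈ T ∨ b⁻¹ * h ∈ T := by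
  intro h hh
  have := L.fin
  have hidx : (T.subgroupOf H).index = 3 := L.relTH
  have hcard : Nat.card (↥H ⧸ T.subgroupOf H) = 3 := by
    rw [← Subgroup.index_eq_card]; exact hidx
  have hne : ∀ x y : ↥H, (x : G)⁻¹ * (y : G) ∉ T →
      (QuotientGroup.mk x : ↥H ⧸ T.subgroupOf H) ≠ QuotientGroup.mk y := by
    intro x y hxy heq
    apply hxy
    have := QuotientGroup.eq.mp heq
    exact Subgroup.mem_subgroupOf.mp this
  have h1 : (QuotientGroup.mk (1 : ↥H) : ↥H ⧸ T.subgroupOf H) ≠ QuotientGroup.mk ⟨a, ha⟩ :=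
    hne _ _ (by simpa using haT)
  have h2 : (QuotientGroup.mk (1 : ↥H) : ↥H ⧸ T.subgroupOf H) ≠ QuotientGroup.mk ⟨b, hb⟩ :=
    hne _ _ (by simpa using hbT)
  have h3 : (QuotientGroup.mk (⟨a, ha⟩ : ↥H) : ↥H ⧸ T.subgroupOf H) ≠ QuotientGroup.mk ⟨b, hb⟩ :=
    hne _ _ hab
  have hs : ({(QuotientGroup.mk (1 : ↥H) : ↥H ⧸ T.subgroupOf H), QuotientGroup.mk ⟨a, ha⟩,
      QuotientGroup.mk ⟨b, hb⟩} : Set (↥H ⧸ T.subgroupOf H)).ncard = 3 :=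
    Set.ncard_eq_three.mpr ⟨_, _, _, h1, h2, h3, rfl⟩
  have huniv : ({(QuotientGroup.mk (1 : ↥H) : ↥H ⧸ T.subgroupOf H), QuotientGroup.mk ⟨a, ha⟩,
      QuotientGroup.mk ⟨b, hb⟩} : Set (↥H ⧸ T.subgroupOf H)) = Set.univ := by
    apply Set.eq_of_subset_of_ncard_le (Set.subset_univ _) _ (Set.toFinite _)
    rw [hs, Set.ncard_univ, hcard]
  have hmem : (QuotientGroup.mk (⟨h, hh⟩ : ↥H) : ↥H ⧸ T.subgroupOf H) ∈
      ({(QuotientGroup.mk (1 : ↥H) : ↥H ⧸ T.subgroupOf H), QuotientGroup.mk ⟨a, ha⟩,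
      QuotientGroup.mk ⟨b, hb⟩} : Set (↥H ⧸ T.subgroupOf H)) := by
    rw [huniv]; exact Set.mem_univ _
  rcases hmem with hm | hm | hm
  · left
    have := Subgroup.mem_subgroupOf.mp (QuotientGroup.eq.mp hm.symm)
    simpa using this
  · right; left
    exact Subgroup.mem_subgroupOf.mp (QuotientGroup.eq.mp hm.symm)
  · right; right
    exact Subgroup.mem_subgroupOf.mp (QuotientGroup.eq.mp hm.symm)

/-- The subgroup `{l ∈ L | [l, D] ⊆ K}`. -/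
theorem exists_commSub {L D K : Subgroup G} (hD : Nz L D) (hK : Nz L K) :
    ∃ C : Subgroup G, ∀ l, l ∈ C ↔ (l ∈ L ∧ ∀ d ∈ D, l * d * l⁻¹ * d⁻¹ ∈ K) := by
  refine ⟨{ carrier := {l | l ∈ L ∧ ∀ d ∈ D, l * d * l⁻¹ * d⁻¹ ∈ K}
            mul_mem' := ?_
            one_mem' := ?_
            inv_mem' := ?_ }, fun l => Iff.rfl⟩
  · rintro l l' ⟨hl, hlK⟩ ⟨hl', hlK'⟩
    refine ⟨L.mul_mem hl hl', fun d hd => ?_⟩
    have e : l * l' * d * (l * l')⁻¹ * d⁻¹ =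
        (l * (l' * d * l'⁻¹ * d⁻¹) * l⁻¹) * (l * d * l⁻¹ * d⁻¹) := by group
    rw [e]
    exact K.mul_mem (hK l hl _ (hlK' d hd)) (hlK d hd)
  · refine ⟨L.one_mem, fun d _ => ?_⟩
    have e : (1 : G) * d * (1 : G)⁻¹ * d⁻¹ = 1 := by group
    rw [e]; exact K.one_mem
  · rintro l ⟨hl, hlK⟩
    refine ⟨L.inv_mem hl, fun d hd => ?_⟩
    have hd' : l⁻¹ * d * l ∈ D := by
      have := hD l⁻¹ (L.inv_mem hl) d hd
      rwa [inv_inv] at this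
    have h1 := K.inv_mem (hlK _ hd')
    have e : l⁻¹ * d * l⁻¹⁻¹ * d⁻¹ = (l * (l⁻¹ * d * l) * l⁻¹ * (l⁻¹ * d * l)⁻¹)⁻¹ := by group
    rw [e]; exact h1

/-- The subgroup `C S ∩ L` for `C` normalized by `L`. -/
theorem exists_prodSub {L S C : Subgroup G} (hSL : S ≤ L) (hC : Nz L C) :
    ∃ M : Subgroup G, ∀ l, l ∈ M ↔ (l ∈ L ∧ ∃ s ∈ S, l * s ∈ C) := by
  refine ⟨{ carrier := {l | l ∈ L ∧ ∃ s ∈ S, l * s ∈ C}
            mul_mem' := ?_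
            one_mem' := ?_
            inv_mem' := ?_ }, fun l => Iff.rfl⟩
  · rintro l l' ⟨hl, s, hs, hls⟩ ⟨hl', s', hs', hls'⟩
    refine ⟨L.mul_mem hl hl', s' * s, S.mul_mem hs' hs, ?_⟩
    have h1 : s⁻¹ * (l' * s') * s ∈ C := by
      have := hC s⁻¹ (L.inv_mem (hSL hs)) _ hls'
      rwa [inv_inv] at this
    have e : l * l' * (s' * s) = (l * s) * (s⁻¹ * (l' * s') * s) := by group
    rw [e]; exact C.mul_mem hls h1
  · exact ⟨L.one_mem, 1, S.one_mem, by simp⟩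
  · rintro l ⟨hl, s, hs, hls⟩
    refine ⟨L.inv_mem hl, s⁻¹, S.inv_mem hs, ?_⟩
    have h1 := hC s (hSL hs) _ (C.inv_mem hls)
    have e : l⁻¹ * s⁻¹ = s * (l * s)⁻¹ * s⁻¹ := by group
    rw [e]; exact h1

/-- Powers: if `l s ∈ C` with `C` normalized by `L ∋ l, s`, then `l ^ n * s ^ n ∈ C`. -/
theorem pow_mul_pow_mem {L C : Subgroup G} (hC : Nz L C) {l s : G} (_hl : l ∈ L) (hs : s ∈ L)
    (hls : l * s ∈ C) : ∀ n : ℕ, l ^ n * s ^ n ∈ C := by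
  intro n
  induction n with
  | zero => simp
  | succ n ih =>
    have h1 : s⁻¹ * (l ^ n * s ^ n) * s ∈ C := by
      have := hC s⁻¹ (L.inv_mem hs) _ ih
      rwa [inv_inv] at this
    have e : l ^ (n + 1) * s ^ (n + 1) = (l * s) * (s⁻¹ * (l ^ n * s ^ n) * s) := by
      rw [pow_succ', pow_succ]; group
    rw [e]; exact C.mul_mem hls h1

/-- **Package NC.** -/
theorem pkgNC : PkgNC.{u} := by
  intro G _ P₁ P₂ T Q₁ Q₂ L hctx p hpP hpT K hKQ hKL hKpL g hgL hgK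
  by_contra hgD
  have : Fact (Nat.Prime 2) := ⟨Nat.prime_two⟩
  have : Fact (Nat.Prime 3) := ⟨Nat.prime_three⟩
  obtain ⟨a₁, a₂, z₁, z₂, core, nD, SL, LP, nL, aL, zL⟩ := hctx
  have L₁ := s3Loc_of_lamal a₁
  have L₂ := s3Loc_of_lamal a₂
  have LL := s3Loc_of_lamal aL
  have hfinL : Finite ↥L := aL.fin
  have hDL : Nz L (Q₁ ⊓ Q₂) := aL.hQn
  obtain ⟨h₀, hh₀L, hh₀S⟩ := LL.exHT
  -- Step A: a subgroup of `Q₂` normalized by `L` lies in `D`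
  have stepA : ∀ N : Subgroup G, N ≤ Q₂ → Nz L N → N ≤ Q₁ ⊓ Q₂ := by
    intro N hN hNL t ht
    exact LL.inter h₀ hh₀L hh₀S t (hN ht) (hN (hNL h₀ hh₀L t ht))
  have hKD : K ≤ Q₁ ⊓ Q₂ := stepA K hKQ hKL
  -- Step B: `K ≤ cj p D`
  have hKpD : ∀ k ∈ K, p⁻¹ * k * p ∈ Q₁ ⊓ Q₂ := by
    intro k hk
    have hpinv : p⁻¹ ∈ P₂ := P₂.inv_mem hpP
    have ht : p⁻¹ * k * p ∈ Q₂ := by
      have := a₂.hQn p⁻¹ hpinv k (hKQ hk)
      rwa [inv_inv] at this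
    refine LL.inter h₀ hh₀L hh₀S _ ht ?_
    have h1 : (p * h₀ * p⁻¹) * k * (p * h₀ * p⁻¹)⁻¹ ∈ K := hKpL _ (conj_mem_cj hh₀L) k hk
    have h2 := a₂.hQn p⁻¹ hpinv _ (hKQ h1)
    have e : h₀ * (p⁻¹ * k * p) * h₀⁻¹ =
        p⁻¹ * ((p * h₀ * p⁻¹) * k * (p * h₀ * p⁻¹)⁻¹) * p⁻¹⁻¹ := by group
    rw [e]; exact h2
  -- the subgroup `C`
  obtain ⟨C, hC⟩ := exists_commSub hDL hKL
  have hCL : C ≤ L := fun l hl => ((hC l).mp hl).1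
  have hCn : Nz L C := by
    intro h hh l hl
    obtain ⟨hlL, hlK⟩ := (hC l).mp hl
    rw [hC]
    refine ⟨L.mul_mem (L.mul_mem hh hlL) (L.inv_mem hh), fun d hd => ?_⟩
    have hd' : h⁻¹ * d * h ∈ Q₁ ⊓ Q₂ := by
      have := hDL h⁻¹ (L.inv_mem hh) d hd
      rwa [inv_inv] at this
    have h1 := hKL h hh _ (hlK _ hd')
    have e : h * l * h⁻¹ * d * (h * l * h⁻¹)⁻¹ * d⁻¹ =
        h * (l * (h⁻¹ * d * h) * l⁻¹ * (h⁻¹ * d * h)⁻¹) * h⁻¹ := by group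
    rw [e]; exact h1
  have hgC : g ∈ C := (hC g).mpr ⟨hgL, hgK⟩
  -- `C ≰ Q₂`
  obtain ⟨c₀, hc₀C, hc₀S⟩ : ∃ c₀ ∈ C, c₀ ∉ Q₂ := by
    by_contra hcon
    push Not at hcon
    exact hgD (stepA C hcon hCn hgC)
  -- `L = C S`
  obtain ⟨M, hM⟩ := exists_prodSub SL hCn
  have hSM : Q₂ ≤ M := by
    intro s hs
    rw [hM]
    exact ⟨SL hs, s⁻¹, Q₂.inv_mem hs, by simp⟩
  have hc₀M : c₀ ∈ M := (hM c₀).mpr ⟨hCL hc₀C, 1, Q₂.one_mem, by simpa using hc₀C⟩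
  have hLM : L ≤ M := LL.gen hSM (hCL hc₀C) hc₀M hc₀S
  -- powers
  obtain ⟨m, hm⟩ : ∃ m : ℕ, m = Nat.card ↥Q₂ := ⟨_, rfl⟩
  have hfinS : Finite ↥Q₂ := LL.finT
  have hpowS : ∀ s ∈ Q₂, s ^ m = 1 := by
    intro s hs
    have h1 : ((⟨s, hs⟩ : ↥Q₂) ^ Nat.card ↥Q₂ : ↥Q₂) = 1 := pow_card_eq_one'
    have h2 : (((⟨s, hs⟩ : ↥Q₂) ^ Nat.card ↥Q₂ : ↥Q₂) : G) = 1 := by rw [h1]; rfl
    rw [hm]
    rw [SubgroupClass.coe_pow] at h2
    exact h2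
  have hpowC : ∀ l ∈ L, l ^ m ∈ C := by
    intro l hl
    obtain ⟨-, s, hs, hls⟩ := (hM l).mp (hLM hl)
    have h1 := pow_mul_pow_mem hCn hl (SL hs) hls m
    rwa [hpowS s hs, mul_one] at h1
  -- an element of order 3
  have h3 : 3 ∣ Nat.card ↥L := by rw [aL.hHT]; exact dvd_mul_right 3 _
  obtain ⟨ρ, hρ⟩ := exists_prime_orderOf_dvd_card' (G := ↥L) 3 h3
  obtain ⟨k, hk⟩ := IsPGroup.iff_card.mp aL.hT2
  have hρ' : orderOf (ρ : G) = 3 := by rw [Subgroup.orderOf_coe, hρ]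
  have hcop : (orderOf (ρ : G)).Coprime m := by
    rw [hρ', hm, hk]
    exact Nat.Coprime.pow_right k (by norm_num)
  obtain ⟨u₀, hu₀⟩ : ∃ u₀ : G, u₀ = (ρ : G) ^ m := ⟨_, rfl⟩
  have hu₀ord : orderOf u₀ = 3 := by
    rw [hu₀, Nat.Coprime.orderOf_pow hcop, hρ']
  have hu₀L : u₀ ∈ L := by rw [hu₀]; exact L.pow_mem ρ.2 m
  have hu₀T : u₀ ∉ T := by
    intro ht
    obtain ⟨j, hj⟩ := a₁.hT2 ⟨u₀, ht⟩
    have hj' : u₀ ^ 2 ^ j = 1 := by simpa using congrArg Subtype.val hj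
    have hdvd : orderOf u₀ ∣ 2 ^ j := orderOf_dvd_of_pow_eq_one hj'
    rw [hu₀ord] at hdvd
    have := Nat.Prime.dvd_of_dvd_pow Nat.prime_three hdvd
    omega
  -- `R₁`
  obtain ⟨R₁, hR₁⟩ : ∃ R₁ : Subgroup G, R₁ = Subgroup.closure
      {y : G | ∃ l ∈ L, ∃ d ∈ Q₁ ⊓ Q₂, y = l ^ m * d * (l ^ m)⁻¹ * d⁻¹} := ⟨_, rfl⟩
  have hR₁K : R₁ ≤ K := by
    rw [hR₁, Subgroup.closure_le]
    rintro y ⟨l, hl, d, hd, rfl⟩
    exact ((hC _).mp (hpowC l hl)).2 d hd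
  have hR₁P : Nz P₁ R₁ := by
    intro h hh r hr
    rw [hR₁] at hr ⊢
    induction hr using Subgroup.closure_induction with
    | mem y hy =>
      obtain ⟨l, hl, d, hd, rfl⟩ := hy
      apply Subgroup.subset_closure
      refine ⟨h * l * h⁻¹, nL h hh l hl, h * d * h⁻¹, nD h hh d hd, ?_⟩
      rw [conj_pow]; group
    | one => simp
    | mul x y _ _ ihx ihy =>
      have e : h * (x * y) * h⁻¹ = (h * x * h⁻¹) * (h * y * h⁻¹) := by group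
      rw [e]; exact Subgroup.mul_mem _ ihx ihy
    | inv x _ ihx =>
      have e : h * x⁻¹ * h⁻¹ = (h * x * h⁻¹)⁻¹ := by group
      rw [e]; exact Subgroup.inv_mem _ ihx
  -- `x ∈ Q₁ \ Q₂`
  obtain ⟨x, hxQ₁, hxQ₂⟩ : ∃ x ∈ Q₁, x ∉ Q₂ := by
    by_contra hcon
    push Not at hcon
    have hle : Q₁ ≤ Q₂ := hcon
    have heq : Q₁ ⊓ Q₂ = Q₁ := inf_eq_left.mpr hle
    have h1 := a₁.hTQ
    have h2 := a₂.hTQ
    have h3 := aL.hTQ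
    rw [heq] at h3
    have hfinQ₁ : Finite ↥Q₁ := L₁.finQ
    have hpos : 0 < Nat.card ↥Q₁ := Nat.card_pos
    omega
  have hxT : x ∈ T := a₁.hQT hxQ₁
  have hR₁xp : ∀ r ∈ R₁, (x * p)⁻¹ * r * (x * p) ∈ Q₁ ⊓ Q₂ := by
    intro r hr
    have h1 : x⁻¹ * r * x ∈ R₁ := by
      have := hR₁P x⁻¹ (P₁.inv_mem (a₁.hTH hxT)) r hr
      rwa [inv_inv] at this
    have h2 := hKpD _ (hR₁K h1)
    have e : (x * p)⁻¹ * r * (x * p) = p⁻¹ * (x⁻¹ * r * x) * p := by group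
    rw [e]; exact h2
  -- the three cosets of `T` in `P₂`
  have hxpT : x * p ∉ T := fun h => hpT (by
    have := T.mul_mem (T.inv_mem hxT) h
    simpa using this)
  have hpxp : p⁻¹ * (x * p) ∉ T := by
    intro h
    apply hxQ₂
    refine L₂.inter p⁻¹ (P₂.inv_mem hpP) (fun h' => hpT (by simpa using T.inv_mem h')) x hxT ?_
    rw [inv_inv]
    have e : p⁻¹ * x * p = p⁻¹ * (x * p) := by group
    rw [e]; exact h
  have hcos := three_cosets L₂ hpP (P₂.mul_mem (a₂.hTH hxT) hpP) hpT hxpT hpxp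
  have hTD : ∀ τ ∈ T, ∀ d ∈ Q₁ ⊓ Q₂, τ⁻¹ * d * τ ∈ Q₁ ⊓ Q₂ := by
    intro τ hτ d hd
    have := nD τ⁻¹ (P₁.inv_mem (a₁.hTH hτ)) d hd
    rwa [inv_inv] at this
  -- `R`
  obtain ⟨R, hR⟩ : ∃ R : Subgroup G, R = Subgroup.closure
      {y : G | ∃ a ∈ P₂, ∃ r ∈ R₁, y = a * r * a⁻¹} := ⟨_, rfl⟩
  have hRD : R ≤ Q₁ ⊓ Q₂ := by
    rw [hR, Subgroup.closure_le]
    rintro y ⟨a, ha, r, hr, rfl⟩
    rcases hcos a⁻¹ (P₂.inv_mem ha) with h | h | h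
    · have h1 := hTD _ h r (hKD (hR₁K hr))
      rw [inv_inv] at h1
      exact h1
    · have h1 := hTD _ h _ (hKpD r (hR₁K hr))
      have e : (p⁻¹ * a⁻¹)⁻¹ * (p⁻¹ * r * p) * (p⁻¹ * a⁻¹) = a * r * a⁻¹ := by group
      rw [e] at h1; exact h1
    · have h1 := hTD _ h _ (hR₁xp r hr)
      have e : ((x * p)⁻¹ * a⁻¹)⁻¹ * ((x * p)⁻¹ * r * (x * p)) * ((x * p)⁻¹ * a⁻¹) =
          a * r * a⁻¹ := by group
      rw [e] at h1; exact h1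
  have hR₁R : R₁ ≤ R := by
    intro r hr
    rw [hR]
    exact Subgroup.subset_closure ⟨1, P₂.one_mem, r, hr, by group⟩
  have hRP₂ : Nz P₂ R := by
    intro h hh r hr
    rw [hR] at hr ⊢
    induction hr using Subgroup.closure_induction with
    | mem y hy =>
      obtain ⟨a, ha, r, hr, rfl⟩ := hy
      exact Subgroup.subset_closure ⟨h * a, P₂.mul_mem hh ha, r, hr, by group⟩
    | one => simp
    | mul x y _ _ ihx ihy =>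
      have e : h * (x * y) * h⁻¹ = (h * x * h⁻¹) * (h * y * h⁻¹) := by group
      rw [e]; exact Subgroup.mul_mem _ ihx ihy
    | inv x _ ihx =>
      have e : h * x⁻¹ * h⁻¹ = (h * x * h⁻¹)⁻¹ := by group
      rw [e]; exact Subgroup.inv_mem _ ihx
  have hpowR : ∀ l ∈ L, ∀ r ∈ R, l ^ m * r * (l ^ m)⁻¹ ∈ R := by
    intro l hl r hr
    have h1 : l ^ m * r * (l ^ m)⁻¹ * r⁻¹ ∈ R₁ := by
      rw [hR₁]
      exact Subgroup.subset_closure ⟨l, hl, r, hRD hr, rfl⟩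
    have e : l ^ m * r * (l ^ m)⁻¹ = (l ^ m * r * (l ^ m)⁻¹ * r⁻¹) * r := by group
    rw [e]; exact R.mul_mem (hR₁R h1) hr
  have hu₀R : ∀ r ∈ R, u₀ * r * u₀⁻¹ ∈ R := by
    intro r hr
    rw [hu₀]; exact hpowR _ ρ.2 r hr
  have hu₀R' : ∀ r ∈ R, u₀⁻¹ * r * u₀ ∈ R := by
    intro r hr
    have h1 := hpowR _ (L.inv_mem ρ.2) r hr
    rw [inv_pow, inv_inv] at h1
    rw [hu₀]
    exact h1
  have hRP₁ : Nz P₁ R := by
    have hTN : T ≤ Subgroup.normalizer (R : Set G) := by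
      intro τ hτ
      rw [Subgroup.mem_normalizer_iff]
      intro r
      refine ⟨hRP₂ τ (a₂.hTH hτ) r, fun h => ?_⟩
      have h1 := hRP₂ τ⁻¹ (P₂.inv_mem (a₂.hTH hτ)) _ h
      have e : τ⁻¹ * (τ * r * τ⁻¹) * τ⁻¹⁻¹ = r := by group
      rwa [e] at h1
    have hu₀N : u₀ ∈ Subgroup.normalizer (R : Set G) := by
      rw [Subgroup.mem_normalizer_iff]
      intro r
      refine ⟨hu₀R r, fun h => ?_⟩
      have h1 := hu₀R' _ h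
      have e : u₀⁻¹ * (u₀ * r * u₀⁻¹) * u₀ = r := by group
      rwa [e] at h1
    have hle := L₁.gen hTN (LP hu₀L) hu₀N hu₀T
    intro h hh r hr
    exact (Subgroup.mem_normalizer_iff.mp (hle hh) r).mp hr
  have hRbot : R = ⊥ := core R (hRD.trans (inf_le_left.trans a₁.hQT)) hRP₁ hRP₂
  have hu₀D : u₀ ∈ Q₁ ⊓ Q₂ := by
    apply aL.hCQ u₀ hu₀L
    intro d hd
    have h1 : u₀ * d * u₀⁻¹ * d⁻¹ ∈ R := by
      apply hR₁R
      rw [hR₁, hu₀]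
      exact Subgroup.subset_closure ⟨_, ρ.2, d, hd, rfl⟩
    rw [hRbot, Subgroup.mem_bot] at h1
    calc u₀ * d = (u₀ * d * u₀⁻¹ * d⁻¹) * d * u₀ := by group
      _ = d * u₀ := by rw [h1, one_mul]
  exact hu₀T (a₁.hQT hu₀D.1)

end Cfsg.Agent.Lib.Helper35.S3Amal
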